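import Mathlib

/-!
# Counting the primes of an integral closure over a prime of a normal domain

For a normal domain `A` with fraction field `K` and a finite separable extension `E/K`, the number
of primes of the integral closure of `A` in `E` over a given prime of `A` is at most `[E : K]`.
-/

set_option autoImplicit false
set_option linter.style.haveILetI false
set_option linter.unusedSectionVars false
set_option linter.unusedVariables false

universe u

namespace Groth.Agent.H47.Unibr

open scoped Pointwise

section abstractN

variable (A K E N : Type u) [CommRing A] [IsDomain A] [IsIntegrallyClosed A]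
  [Field K] [Algebra A K] [IsFractionRing A K]
  [Field E] [Algebra K E] [Algebra A E] [IsScalarTower A K E]
  [Field N] [Algebra K N] [Algebra A N] [IsScalarTower A K N] [FiniteDimensional K N]
  [IsGalois K N]

/-- the map on integral closures induced by a `K`-embedding -/
noncomputable def embIC (σ : E →ₐ[K] N) : integralClosure A E →ₐ[A] integralClosure A N :=
  (σ.restrictScalars A).mapIntegralClosure

theorem embIC_coe (σ : E →ₐ[K] N) (x : integralClosure A E) :
    ((embIC A K E N σ x : integralClosure A N) : N) = σ (x : E) := rfl

theorem embIC_injective (σ : E →ₐ[K] N) : Function.Injective (embIC A K E N σ) := by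
  intro x y h
  apply Subtype.ext
  have := congrArg (fun z : integralClosure A N => (z : N)) h
  exact σ.toRingHom.injective this

theorem comap_algebraMap_comap_embIC (σ : E →ₐ[K] N) (Q : Ideal (integralClosure A N)) :
    (Q.comap (embIC A K E N σ)).comap (algebraMap A (integralClosure A E)) =
      Q.comap (algebraMap A (integralClosure A N)) := by
  ext a
  simp only [Ideal.mem_comap]
  rw [(embIC A K E N σ).commutes a]

/-- lying over along `embIC` -/
theorem exists_prime_comap_embIC (σ : E →ₐ[K] N) (P : Ideal (integralClosure A E)) [P.IsPrime] :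
    ∃ Q : Ideal (integralClosure A N), Q.IsPrime ∧ Q.comap (embIC A K E N σ) = P := by
  letI : Algebra (integralClosure A E) (integralClosure A N) :=
    (embIC A K E N σ).toRingHom.toAlgebra
  haveI : IsScalarTower A (integralClosure A E) (integralClosure A N) :=
    IsScalarTower.of_algebraMap_eq fun a => ((embIC A K E N σ).commutes a).symm
  haveI : Algebra.IsIntegral A (integralClosure A N) := inferInstance
  haveI : Algebra.IsIntegral (integralClosure A E) (integralClosure A N) :=
    Algebra.IsIntegral.tower_top A
  have hker : RingHom.ker (algebraMap (integralClosure A E) (integralClosure A N)) ≤ P := by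
    intro x hx
    have h0 : embIC A K E N σ x = 0 := hx
    have : x = 0 := embIC_injective A K E N σ (by rw [h0, map_zero])
    rw [this]
    exact P.zero_mem
  exact Ideal.exists_ideal_over_prime_of_isIntegral_of_isDomain P hker

/-- every prime over `p` is the pullback of a fixed prime `Q₀` over `p` along some embedding -/
theorem exists_embedding_of_primesOver (ι : E →ₐ[K] N) (p : Ideal A)
    (Q₀ : Ideal (integralClosure A N)) [Q₀.IsPrime]
    (hQ₀ : Q₀.comap (algebraMap A (integralClosure A N)) = p)
    (P : Ideal (integralClosure A E)) [P.IsPrime]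
    (hP : P.comap (algebraMap A (integralClosure A E)) = p) :
    ∃ σ : E →ₐ[K] N, P = Q₀.comap (embIC A K E N σ) := by
  obtain ⟨Q, hQprime, hQP⟩ := exists_prime_comap_embIC A K E N ι P
  haveI := hQprime
  haveI : IsFractionRing (integralClosure A N) N :=
    integralClosure.isFractionRing_of_finite_extension K N
  letI act : MulSemiringAction Gal(N/K) (integralClosure A N) :=
    IsIntegralClosure.MulSemiringAction A K N (integralClosure A N)
  haveI inv : Algebra.IsInvariant A (integralClosure A N) Gal(N/K) :=
    Algebra.isInvariant_of_isGalois A K N (integralClosure A N)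
  have hact : ∀ (g : Gal(N/K)) (b : integralClosure A N),
      ((g • b : integralClosure A N) : N) = g (b : N) := fun g b =>
    algebraMap_galRestrict_apply A g b
  haveI : SMulCommClass Gal(N/K) A (integralClosure A N) := ⟨fun g a b => by
    apply Subtype.ext
    rw [hact]
    change g (a • (b : N)) = a • ((g • b : integralClosure A N) : N)
    rw [hact, Algebra.smul_def, Algebra.smul_def, map_mul,
      IsScalarTower.algebraMap_apply A K N, AlgEquiv.commutes]⟩
  have hunder : Q₀.under A = Q.under A := by
    rw [Ideal.under_def, Ideal.under_def, hQ₀, ← hP, ← hQP,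
      comap_algebraMap_comap_embIC A K E N ι Q]
  obtain ⟨g, hg⟩ := Algebra.IsInvariant.exists_smul_of_under_eq A (integralClosure A N)
    Gal(N/K) Q₀ Q hunder
  refine ⟨((g⁻¹ : Gal(N/K)) : N →ₐ[K] N).comp ι, ?_⟩
  ext x
  rw [← hQP, hg, Ideal.mem_comap, Ideal.mem_comap, Ideal.mem_pointwise_smul_iff_inv_smul_mem]
  have : (g⁻¹ • (embIC A K E N ι x) : integralClosure A N) =
      embIC A K E N (((g⁻¹ : Gal(N/K)) : N →ₐ[K] N).comp ι) x := by
    apply Subtype.ext
    rw [hact]
    rfl
  rw [this]

/-- the number of primes of the integral closure over a prime is at most the degree -/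
theorem primesOver_finite_and_ncard_le [FiniteDimensional K E] (ι : E →ₐ[K] N) (p : Ideal A)
    [p.IsPrime] :
    (p.primesOver (integralClosure A E)).Finite ∧
      (p.primesOver (integralClosure A E)).ncard ≤ Module.finrank K E := by
  by_cases hne : (p.primesOver (integralClosure A E)).Nonempty
  · obtain ⟨P₁, hP₁prime, hP₁over⟩ := hne
    haveI := hP₁prime
    obtain ⟨Q₀, hQ₀prime, hQ₀P⟩ := exists_prime_comap_embIC A K E N ι P₁
    haveI := hQ₀prime
    have hQ₀ : Q₀.comap (algebraMap A (integralClosure A N)) = p := by
      have h1 : P₁.comap (algebraMap A (integralClosure A E)) = p := hP₁over.over.symm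
      rw [← h1, ← hQ₀P, comap_algebraMap_comap_embIC A K E N ι Q₀]
    have hsub : p.primesOver (integralClosure A E) ⊆
        Set.range fun σ : E →ₐ[K] N => Q₀.comap (embIC A K E N σ) := by
      rintro P ⟨hPprime, hPover⟩
      haveI := hPprime
      obtain ⟨σ, hσ⟩ := exists_embedding_of_primesOver A K E N ι p Q₀ hQ₀ P hPover.over.symm
      exact ⟨σ, hσ.symm⟩
    haveI : Finite (E →ₐ[K] N) := Finite.algHom K E N
    have hfin : (Set.range fun σ : E →ₐ[K] N => Q₀.comap (embIC A K E N σ)).Finite :=
      Set.finite_range _
    refine ⟨hfin.subset hsub, ?_⟩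
    calc (p.primesOver (integralClosure A E)).ncard
        ≤ (Set.range fun σ : E →ₐ[K] N => Q₀.comap (embIC A K E N σ)).ncard :=
          Set.ncard_le_ncard hsub hfin
      _ ≤ Nat.card (E →ₐ[K] N) := by
          rw [← Set.ncard_univ, ← Set.image_univ]
          exact Set.ncard_image_le Set.finite_univ
      _ ≤ Module.finrank K E := card_algHom_le_finrank K E N
  · rw [Set.not_nonempty_iff_eq_empty] at hne
    rw [hne]
    simp

end abstractN

end Groth.Agent.H47.Unibr
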