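import Mathlib
import Groth.Agent.H47.Unibr.GaloisCount

/-!
# Counting primes over a prime of a normal domain in a finite separable extension
-/

set_option autoImplicit false
set_option linter.style.haveILetI false
set_option linter.unusedSectionVars false
set_option linter.unusedVariables false

universe u

namespace Groth.Agent.H47.Unibr

open IntermediateField

/-- For a normal domain `A` with fraction field `K` and a finite separable extension `E/K`,
the primes of the integral closure of `A` in `E` over a prime `p` of `A` are finitely many,
at most `[E : K]`. -/
theorem primesOver_finite_and_ncard_le_of_isSeparable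
    (A K E : Type u) [CommRing A] [IsDomain A] [IsIntegrallyClosed A]
    [Field K] [Algebra A K] [IsFractionRing A K]
    [Field E] [Algebra K E] [Algebra A E] [IsScalarTower A K E]
    [FiniteDimensional K E] [Algebra.IsSeparable K E] (p : Ideal A) [p.IsPrime] :
    (p.primesOver (integralClosure A E)).Finite ∧
      (p.primesOver (integralClosure A E)).ncard ≤ Module.finrank K E := by
  let Ω := AlgebraicClosure E
  haveI : IsScalarTower K E Ω := inferInstance
  haveI : Algebra.IsAlgebraic K Ω := Algebra.IsAlgebraic.trans K E Ω
  haveI : IsAlgClosure K Ω := ⟨inferInstance, inferInstance⟩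
  haveI : Normal K Ω := IsAlgClosure.normal K Ω
  let N : IntermediateField K Ω := normalClosure K E Ω
  haveI : Normal K N := normalClosure.normal K E Ω
  haveI : FiniteDimensional K N := normalClosure.is_finiteDimensional K E Ω
  haveI : Algebra.IsSeparable K N := by
    change Algebra.IsSeparable K (⨆ f : E →ₐ[K] Ω, f.fieldRange : IntermediateField K Ω)
    haveI : ∀ f : E →ₐ[K] Ω, Algebra.IsSeparable K f.fieldRange := fun f =>
      Algebra.IsSeparable.of_algHom K E (AlgEquiv.ofInjectiveField f).symm.toAlgHom
    exact IntermediateField.isSeparable_iSup K Ω
  haveI : IsGalois K N := ⟨⟩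
  letI : Algebra A N := ((algebraMap K N).comp (algebraMap A K)).toAlgebra
  haveI : IsScalarTower A K N := IsScalarTower.of_algebraMap_eq fun _ => rfl
  exact primesOver_finite_and_ncard_le A K E N (IsScalarTower.toAlgHom K E N) p

end Groth.Agent.H47.Unibr
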