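import Mathlib
import Groth.Agent.H47.Unibr.SepCount

/-!
# Radicial contraction and the count of maximal ideals of an integral closure
-/

set_option autoImplicit false
set_option linter.style.haveILetI false
set_option linter.unusedSectionVars false
set_option linter.unusedVariables false

universe u

namespace Groth.Agent.H47.Unibr

open IntermediateField

/-- primes are determined by their contraction along a ring map `f` such that every element of the
target has a positive power in the range of `f` -/
theorem ideal_eq_of_comap_eq_of_pow_mem_range {R S F : Type*} [CommRing R] [CommRing S]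
    [FunLike F R S] [RingHomClass F R S] (f : F)
    (h : ∀ x : S, ∃ n : ℕ, 0 < n ∧ ∃ a : R, f a = x ^ n) (P₁ P₂ : Ideal S) [P₁.IsPrime]
    [P₂.IsPrime] (hc : P₁.comap f = P₂.comap f) : P₁ = P₂ := by
  have key : ∀ (Q₁ Q₂ : Ideal S) [Q₁.IsPrime] [Q₂.IsPrime], Q₁.comap f = Q₂.comap f → Q₁ ≤ Q₂ := by
    intro Q₁ Q₂ _ _ hQ x hx
    obtain ⟨n, hn, a, ha⟩ := h x
    have h1 : a ∈ Q₁.comap f := by
      rw [Ideal.mem_comap, ha]
      exact Ideal.pow_mem_of_mem Q₁ hx n hn
    rw [hQ, Ideal.mem_comap, ha] at h1
    exact Ideal.IsPrime.mem_of_pow_mem inferInstance n h1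
  exact le_antisymm (key P₁ P₂ hc) (key P₂ P₁ hc.symm)

/-- the contraction of a maximal ideal of an integral algebra over a local ring is the maximal
ideal -/
theorem comap_eq_maximalIdeal_of_isMaximal {A C : Type*} [CommRing A] [IsLocalRing A] [CommRing C]
    [Algebra A C] [Algebra.IsIntegral A C] (P : Ideal C) [P.IsMaximal] :
    P.comap (algebraMap A C) = IsLocalRing.maximalIdeal A :=
  IsLocalRing.eq_maximalIdeal (Ideal.isMaximal_comap_of_isIntegral_of_isMaximal P)

end Groth.Agent.H47.Unibr
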