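import Mathlib
import Groth.Agent.H47.Unibr.Radicial

/-!
# The number of maximal ideals of the integral closure of a normal local domain in an algebraic
extension of its fraction field is at most the separable degree
-/

set_option autoImplicit false
set_option linter.style.haveILetI false
set_option linter.unusedSectionVars false
set_option linter.unusedVariables false

universe u

namespace Groth.Agent.H47.Unibr

open IntermediateField

section normalLocal

variable (A K M : Type u) [CommRing A] [IsDomain A] [IsIntegrallyClosed A] [IsLocalRing A]
    [Field K] [Algebra A K] [IsFractionRing A K]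
    [Field M] [Algebra K M] [Algebra A M] [IsScalarTower A K M]

/-- the inclusion of the integral closure of `A` in an intermediate field into the integral closure
in the big field -/
noncomputable def icIncl (E : IntermediateField K M) :
    integralClosure A E →ₐ[A] integralClosure A M :=
  (E.val.restrictScalars A).mapIntegralClosure

theorem icIncl_coe (E : IntermediateField K M) (x : integralClosure A E) :
    ((icIncl A K M E x : integralClosure A M) : M) = ((x : E) : M) := rfl

theorem comap_algebraMap_comap_icIncl (E : IntermediateField K M) (Q : Ideal (integralClosure A M)) :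
    (Q.comap (icIncl A K M E)).comap (algebraMap A (integralClosure A E)) =
      Q.comap (algebraMap A (integralClosure A M)) := by
  ext a
  simp only [Ideal.mem_comap]
  rw [(icIncl A K M E).commutes a]

/-- if `M/E` is purely inseparable then every element of the integral closure in `M` has a positive
power in the integral closure in `E` -/
theorem exists_pow_mem_range_icIncl (E : IntermediateField K M) [IsPurelyInseparable E M]
    (x : integralClosure A M) :
    ∃ n : ℕ, 0 < n ∧ ∃ a : integralClosure A E, icIncl A K M E a = x ^ n := by
  obtain ⟨e, y, hy⟩ := IsPurelyInseparable.pow_mem E (ringExpChar E) (x : M)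
  have hq : 0 < ringExpChar E := by
    rcases expChar_is_prime_or_one E (ringExpChar E) with h | h
    · exact h.pos
    · rw [h]; exact Nat.one_pos
  refine ⟨ringExpChar E ^ e, pow_pos hq e, ?_⟩
  haveI : IsScalarTower A E M := IsScalarTower.of_algebraMap_eq fun a => by
    rw [IsScalarTower.algebraMap_apply A K M, IsScalarTower.algebraMap_apply A K E]
    rfl
  have hyint : IsIntegral A y := by
    rw [← isIntegral_algebraMap_iff (algebraMap E M).injective (R := A), hy]
    exact x.2.pow _
  refine ⟨⟨y, hyint⟩, ?_⟩
  apply Subtype.ext
  rw [icIncl_coe]
  exact hy

/-- **Main count.** For a normal local domain `A` with fraction field `K` and an algebraic extension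
`M/K` of finite separable degree `n > 0`, the integral closure of `A` in `M` has at most `n` maximal
ideals. -/
theorem maximalSpectrum_finite_and_card_le [Algebra.IsAlgebraic K M]
    (hn : 0 < Field.finSepDegree K M) :
    Finite (MaximalSpectrum (integralClosure A M)) ∧
      Nat.card (MaximalSpectrum (integralClosure A M)) ≤ Field.finSepDegree K M := by
  let E : IntermediateField K M := separableClosure K M
  have hrank : Field.finSepDegree K M = Module.finrank K E := Field.finSepDegree_eq K M
  haveI : FiniteDimensional K E := Module.finite_of_finrank_pos (hrank ▸ hn)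
  haveI : IsPurelyInseparable E M := separableClosure.isPurelyInseparable K M
  haveI : Algebra.IsSeparable K E := separableClosure.isSeparable K M
  obtain ⟨hfin, hcard⟩ := primesOver_finite_and_ncard_le_of_isSeparable A K E
    (IsLocalRing.maximalIdeal A)
  let Φ : MaximalSpectrum (integralClosure A M) →
      ((IsLocalRing.maximalIdeal A).primesOver (integralClosure A E)) := fun P =>
    ⟨P.asIdeal.comap (icIncl A K M E), by
      haveI := P.isMaximal
      refine ⟨Ideal.comap_isPrime _ _, ⟨?_⟩⟩
      rw [Ideal.under_def, comap_algebraMap_comap_icIncl]
      exact (comap_eq_maximalIdeal_of_isMaximal P.asIdeal).symm⟩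
  have hΦ : Function.Injective Φ := by
    intro P₁ P₂ h
    haveI := P₁.isMaximal
    haveI := P₂.isMaximal
    have h' : P₁.asIdeal.comap (icIncl A K M E) = P₂.asIdeal.comap (icIncl A K M E) :=
      congrArg Subtype.val h
    have := ideal_eq_of_comap_eq_of_pow_mem_range (icIncl A K M E)
      (exists_pow_mem_range_icIncl A K M E) P₁.asIdeal P₂.asIdeal h'
    exact MaximalSpectrum.ext this
  haveI : Finite ((IsLocalRing.maximalIdeal A).primesOver (integralClosure A E)) :=
    hfin.to_subtype
  refine ⟨Finite.of_injective Φ hΦ, ?_⟩
  calc Nat.card (MaximalSpectrum (integralClosure A M))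
      ≤ Nat.card ((IsLocalRing.maximalIdeal A).primesOver (integralClosure A E)) :=
        Nat.card_le_card_of_injective Φ hΦ
    _ = ((IsLocalRing.maximalIdeal A).primesOver (integralClosure A E)).ncard :=
        Nat.card_coe_set_eq _
    _ ≤ Module.finrank K E := hcard
    _ = Field.finSepDegree K M := hrank.symm

/-- **Radicial case.** If every element of the integral closure of the normal local domain `A` in
`M` has a positive power coming from `K`, then that integral closure is a local ring. -/
theorem isLocalRing_integralClosure_of_pow_mem
    (h : ∀ x : M, IsIntegral A x → ∃ n : ℕ, 0 < n ∧ ∃ k : K, algebraMap K M k = x ^ n) :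
    IsLocalRing (integralClosure A M) := by
  have hrad : ∀ x : integralClosure A M, ∃ n : ℕ, 0 < n ∧
      ∃ a : A, algebraMap A (integralClosure A M) a = x ^ n := by
    intro x
    obtain ⟨n, hn, k, hk⟩ := h x x.2
    have hkint : IsIntegral A k := by
      rw [← isIntegral_algebraMap_iff (algebraMap K M).injective (R := A), hk]
      exact x.2.pow _
    obtain ⟨a, ha⟩ := IsIntegrallyClosed.isIntegral_iff.1 hkint
    refine ⟨n, hn, a, ?_⟩
    apply Subtype.ext
    change algebraMap A M a = (x : M) ^ n
    rw [IsScalarTower.algebraMap_apply A K M, ha, hk]
  haveI : Nontrivial (integralClosure A M) := inferInstance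
  apply IsLocalRing.of_unique_max_ideal
  obtain ⟨P, hP⟩ := Ideal.exists_maximal (integralClosure A M)
  refine ⟨P, hP, ?_⟩
  intro Q hQ
  haveI := hP
  haveI := hQ
  exact ideal_eq_of_comap_eq_of_pow_mem_range (algebraMap A (integralClosure A M)) hrad Q P
    ((comap_eq_maximalIdeal_of_isMaximal Q).trans (comap_eq_maximalIdeal_of_isMaximal P).symm)

omit [IsLocalRing A] in
/-- **Algebraically closed case.** If `A` is integrally closed and `K` is algebraically closed in
`M`, then the integral closure of `A` in `M` is `A`. -/
theorem integralClosure_eq_bot_of_algClosed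
    (h : ∀ x : M, IsAlgebraic K x → ∃ k : K, algebraMap K M k = x) :
    integralClosure A M = ⊥ := by
  refine le_antisymm ?_ bot_le
  intro x hx
  have hx' : IsIntegral A x := hx
  obtain ⟨k, hk⟩ := h x (hx'.tower_top (A := K)).isAlgebraic
  have hkint : IsIntegral A k := by
    rw [← isIntegral_algebraMap_iff (algebraMap K M).injective (R := A), hk]
    exact hx'
  obtain ⟨a, ha⟩ := IsIntegrallyClosed.isIntegral_iff.1 hkint
  rw [Algebra.mem_bot]
  exact ⟨a, by rw [IsScalarTower.algebraMap_apply A K M, ha, hk]⟩

end normalLocal

end Groth.Agent.H47.Unibr
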