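import Mathlib
import Groth.Prelude.Def_CAlg2
import Groth.Agent.H47.Unibr.MaxCount
import Groth.Agent.H17.Unib.RedTransfer

/-!
# Integral closures of a unibranch local domain in extensions of its fraction field

For a unibranch local domain `O` with fraction field `K` and a field extension `L/K`:

* `isLocalRing_integralClosure_of_isUnibranch`: the normalization `integralClosure O K` is local;
* `maximalSpectrum_integralClosure_finite_and_card_le`: if the algebraic closure of `K` in `L` has
  finite separable degree `n > 0` over `K`, the integral closure of `O` in `L` has at most `n`
  maximal ideals;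
* `isLocalRing_integralClosure_of_isUnibranch_of_pow_mem`: if every element of `L` algebraic over
  `K` has a `q^e`-th power in `K`, the integral closure of `O` in `L` is local;
* `integralClosure_eq_bot_of_isIntegrallyClosed`: if `O` is integrally closed and `K` is
  algebraically closed in `L`, the integral closure of `O` in `L` is `O`.
-/

set_option autoImplicit false
set_option linter.style.haveILetI false
set_option linter.unusedSectionVars false
set_option linter.unusedVariables false

universe u

namespace Groth.Agent.H47.Unibr

open IntermediateField

/-- a ring isomorphism induces a bijection of maximal spectra -/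
noncomputable def maxSpecEquiv {R S : Type*} [CommRing R] [CommRing S] (e : R ≃+* S) :
    MaximalSpectrum R ≃ MaximalSpectrum S where
  toFun P := ⟨P.asIdeal.comap e.symm, by
    haveI := P.isMaximal
    exact Ideal.comap_isMaximal_of_surjective _ e.symm.surjective⟩
  invFun Q := ⟨Q.asIdeal.comap e, by
    haveI := Q.isMaximal
    exact Ideal.comap_isMaximal_of_surjective _ e.surjective⟩
  left_inv P := by
    apply MaximalSpectrum.ext
    ext x
    change e.symm (e x) ∈ P.asIdeal ↔ x ∈ P.asIdeal
    rw [RingEquiv.symm_apply_apply]
  right_inv Q := by
    apply MaximalSpectrum.ext
    ext x
    change e (e.symm x) ∈ Q.asIdeal ↔ x ∈ Q.asIdeal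
    rw [RingEquiv.apply_symm_apply]

section

variable (O K L : Type u) [CommRing O] [IsDomain O] [IsLocalRing O]
  [Field K] [Algebra O K] [IsFractionRing O K]
  [Field L] [Algebra K L] [Algebra O L] [IsScalarTower O K L]

/-- the normalization of a unibranch local domain is local -/
theorem isLocalRing_integralClosure_of_isUnibranch (h : CAlg2.IsUnibranch O) :
    IsLocalRing (integralClosure O K) := by
  haveI : IsDomain (CAlg2.red O) := h.1
  haveI : IsLocalRing (CAlg2.normRed O) := h.2
  have hnil : nilradical O = ⊥ := nilradical_eq_zero O
  let e₁ : CAlg2.red O ≃+* O := (Ideal.quotEquivOfEq hnil).trans (RingEquiv.quotientBot O)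
  let e₂ : CAlg2.normRed O ≃+* integralClosure O (FractionRing O) :=
    Groth.Agent.H17.Unib.normEquivOfRingEquiv e₁
  let e₃ : integralClosure O (FractionRing O) ≃+* integralClosure O K :=
    ((FractionRing.algEquiv O K).mapIntegralClosure).toRingEquiv
  exact (e₂.trans e₃).isLocalRing

/-- integrality over `O` and over its normalization agree -/
theorem isIntegral_normalization_iff (x : L) :
    IsIntegral (integralClosure O K) x ↔ IsIntegral O x := by
  constructor
  · intro hx
    exact isIntegral_trans x hx
  · intro hx
    exact hx.tower_top

/-- the integral closure of `O` in `L` is the integral closure of the normalization of `O` in the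
algebraic closure of `K` in `L` -/
noncomputable def icEquiv :
    integralClosure O L ≃+*
      integralClosure (integralClosure O K) (algebraicClosure K L) where
  toFun x := ⟨⟨(x : L), mem_algebraicClosure_iff.2
      ((show IsIntegral O (x : L) from x.2).tower_top (A := K)).isAlgebraic⟩, by
    have h1 : IsIntegral (integralClosure O K) (x : L) :=
      (isIntegral_normalization_iff O K L _).2 x.2
    have hmem : (x : L) ∈ algebraicClosure K L := mem_algebraicClosure_iff.2
      ((show IsIntegral O (x : L) from x.2).tower_top (A := K)).isAlgebraic
    have h2 : IsIntegral (integralClosure O K)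
        (algebraMap (algebraicClosure K L) L ⟨(x : L), hmem⟩) := h1
    exact (isIntegral_algebraMap_iff (algebraMap (algebraicClosure K L) L).injective
      (R := integralClosure O K)).1 h2⟩
  invFun y := ⟨((y : algebraicClosure K L) : L), by
    have h1 : IsIntegral (integralClosure O K) (y : algebraicClosure K L) := y.2
    have h2 : IsIntegral (integralClosure O K) ((y : algebraicClosure K L) : L) :=
      (isIntegral_algebraMap_iff (algebraMap (algebraicClosure K L) L).injective
        (R := integralClosure O K) (x := (y : algebraicClosure K L))).2 h1
    exact (isIntegral_normalization_iff O K L _).1 h2⟩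
  left_inv x := rfl
  right_inv y := rfl
  map_mul' x y := rfl
  map_add' x y := rfl

/-- **Count of maximal ideals (ring-level form of EGA III 4.3.6 / 4.3.7).** Let `O` be a unibranch
local domain with fraction field `K`, and `L/K` a field extension such that the algebraic closure of
`K` in `L` has finite separable degree `n > 0`. Then the integral closure of `O` in `L` has at most
`n` maximal ideals. -/
theorem maximalSpectrum_integralClosure_finite_and_card_le (h : CAlg2.IsUnibranch O)
    (hn : 0 < Field.finSepDegree K (algebraicClosure K L)) :
    Finite (MaximalSpectrum (integralClosure O L)) ∧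
      Nat.card (MaximalSpectrum (integralClosure O L)) ≤
        Field.finSepDegree K (algebraicClosure K L) := by
  haveI : IsLocalRing (integralClosure O K) := isLocalRing_integralClosure_of_isUnibranch O K h
  haveI : IsFractionRing (integralClosure O K) K :=
    integralClosure.isFractionRing_of_finite_extension K K
  haveI : IsIntegrallyClosed (integralClosure O K) :=
    integralClosure.isIntegrallyClosedOfFiniteExtension K
  obtain ⟨hfin, hcard⟩ := maximalSpectrum_finite_and_card_le (integralClosure O K) K
    (algebraicClosure K L) hn
  let ε := maxSpecEquiv (icEquiv O K L)
  exact ⟨Finite.of_equiv _ ε.symm, (Nat.card_congr ε).trans_le hcard⟩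

/-- **Purely inseparable case (ring-level form of EGA III 4.3.5).** Let `O` be a unibranch local
domain with fraction field `K`, and `L/K` a field extension such that every element of `L` which is
integral over `O` has a positive power in `K`. Then the integral closure of `O` in `L` is a local
ring. -/
theorem isLocalRing_integralClosure_of_isUnibranch_of_pow_mem (h : CAlg2.IsUnibranch O)
    (hrad : ∀ x : L, IsIntegral O x → ∃ n : ℕ, 0 < n ∧ ∃ k : K, algebraMap K L k = x ^ n) :
    IsLocalRing (integralClosure O L) := by
  haveI : IsLocalRing (integralClosure O K) := isLocalRing_integralClosure_of_isUnibranch O K h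
  haveI : IsFractionRing (integralClosure O K) K :=
    integralClosure.isFractionRing_of_finite_extension K K
  haveI : IsIntegrallyClosed (integralClosure O K) :=
    integralClosure.isIntegrallyClosedOfFiniteExtension K
  haveI : IsLocalRing (integralClosure (integralClosure O K) L) :=
    isLocalRing_integralClosure_of_pow_mem (integralClosure O K) K L fun x hx =>
      hrad x ((isIntegral_normalization_iff O K L x).1 hx)
  let e : integralClosure O L ≃+* integralClosure (integralClosure O K) L :=
    { toFun := fun x => ⟨(x : L), (isIntegral_normalization_iff O K L _).2 x.2⟩
      invFun := fun y => ⟨(y : L), (isIntegral_normalization_iff O K L _).1 y.2⟩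
      left_inv := fun x => rfl
      right_inv := fun y => rfl
      map_mul' := fun x y => rfl
      map_add' := fun x y => rfl }
  exact e.symm.isLocalRing

omit [IsLocalRing O] in
/-- **Algebraically closed case (ring-level form of EGA III 4.3.12).** If `O` is an integrally closed
domain with fraction field `K` and `K` is algebraically closed in `L`, then every element of `L`
integral over `O` comes from `O`. -/
theorem integralClosure_eq_bot_of_isIntegrallyClosed [IsIntegrallyClosed O]
    (h : ∀ x : L, IsAlgebraic K x → ∃ k : K, algebraMap K L k = x) :
    integralClosure O L = ⊥ :=
  integralClosure_eq_bot_of_algClosed O K L h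

end

end Groth.Agent.H47.Unibr
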