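import Mathlib
import Groth.Prelude.Def_CAlg2
import Groth.Prelude.Def_ega3
import Groth.Agent.H47.Unibr.Unibranch

/-!
# Scheme-level forms: the integral closure of `O_{Y,y}` in the function field of `X`
-/

set_option autoImplicit false
set_option linter.style.haveILetI false
set_option linter.unusedSectionVars false
set_option linter.unusedVariables false

universe u

namespace Groth.Agent.H47.Unibr

open AlgebraicGeometry CategoryTheory

variable {X Y : Scheme.{u}} [IsIntegral X] [IsIntegral Y]

/-- `stalkToFunctionField f y h` factors through the function field of `Y` -/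
theorem stalkToFunctionField_eq_comp (f : X ⟶ Y)
    (hdom : f.base (genericPoint X) ⤳ genericPoint Y) (y : Y)
    (h : f.base (genericPoint X) ⤳ y) :
    CohIII.stalkToFunctionField f y h =
      (CohIII.stalkToFunctionField f (genericPoint Y) hdom).comp
        (algebraMap (Y.presheaf.stalk y) Y.functionField) := by
  unfold CohIII.stalkToFunctionField
  rw [RingHom.comp_assoc]
  congr 1
  rw [RingHom.algebraMap_toAlgebra, ← CommRingCat.hom_comp, TopCat.Presheaf.stalkSpecializes_comp]

/-- the subring underlying a subalgebra is isomorphic to it -/
def toSubringEquiv {R A : Type*} [CommRing R] [CommRing A] [Algebra R A] (S : Subalgebra R A) :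
    S.toSubring ≃+* S where
  toFun x := ⟨x.1, x.2⟩
  invFun x := ⟨x.1, x.2⟩
  left_inv _ := rfl
  right_inv _ := rfl
  map_mul' _ _ := rfl
  map_add' _ _ := rfl

/-- **Scheme-level count (EGA III 4.3.6/4.3.7, ring half).** In the situation of a dominant morphism
`f : X → Y` of integral schemes such that the algebraic closure of `R(Y)` in `R(X)` has finite
separable degree `n > 0`: for a unibranch point `y`, the integral closure of `O_{Y,y}` in `R(X)` has
at most `n` maximal ideals. -/
theorem maximalSpectrum_integralClosureStalk_finite_and_card_le (f : X ⟶ Y)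
    (hdom : f.base (genericPoint X) ⤳ genericPoint Y) [Algebra Y.functionField X.functionField]
    (halg : algebraMap Y.functionField X.functionField =
      CohIII.stalkToFunctionField f (genericPoint Y) hdom)
    (n : ℕ) (hn0 : 0 < n)
    (hn : Field.finSepDegree Y.functionField
      ↥(algebraicClosure Y.functionField X.functionField) = n)
    (y : Y) (hy : CAlg2.IsUnibranch (Y.presheaf.stalk y)) (h : f.base (genericPoint X) ⤳ y) :
    Finite (MaximalSpectrum (CohIII.integralClosureStalk f y h)) ∧
      Nat.card (MaximalSpectrum (CohIII.integralClosureStalk f y h)) ≤ n := by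
  letI : Algebra (Y.presheaf.stalk y) X.functionField :=
    (CohIII.stalkToFunctionField f y h).toAlgebra
  haveI : IsScalarTower (Y.presheaf.stalk y) Y.functionField X.functionField :=
    IsScalarTower.of_algebraMap_eq' (by
      rw [RingHom.algebraMap_toAlgebra, halg]
      exact stalkToFunctionField_eq_comp f hdom y h)
  obtain ⟨hfin, hcard⟩ := maximalSpectrum_integralClosure_finite_and_card_le
    (Y.presheaf.stalk y) Y.functionField X.functionField hy (hn ▸ hn0)
  let ε : MaximalSpectrum (CohIII.integralClosureStalk f y h) ≃
      MaximalSpectrum (integralClosure (Y.presheaf.stalk y) X.functionField) :=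
    maxSpecEquiv (toSubringEquiv (integralClosure (Y.presheaf.stalk y) X.functionField))
  exact ⟨Finite.of_equiv _ ε.symm, (Nat.card_congr ε).trans_le (hn ▸ hcard)⟩

/-- **Scheme-level purely inseparable case (EGA III 4.3.5, ring half).** If every element of
`R(X)` algebraic over `R(Y)` has a `p^e`-th power in `R(Y)`, then for a unibranch point `y` the
integral closure of `O_{Y,y}` in `R(X)` is a local ring. -/
theorem isLocalRing_integralClosureStalk_of_purelyInseparable (f : X ⟶ Y)
    (hdom : f.base (genericPoint X) ⤳ genericPoint Y)
    (hrad : ∀ x : X.functionField,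
      (∃ q : Polynomial Y.functionField, q ≠ 0 ∧
        Polynomial.eval₂ (CohIII.stalkToFunctionField f (genericPoint Y) hdom) x q = 0) →
      ∃ e : ℕ, x ^ (ringExpChar X.functionField ^ e) ∈
        Set.range (CohIII.stalkToFunctionField f (genericPoint Y) hdom))
    (y : Y) (hy : CAlg2.IsUnibranch (Y.presheaf.stalk y)) (h : f.base (genericPoint X) ⤳ y) :
    IsLocalRing (CohIII.integralClosureStalk f y h) := by
  letI : Algebra Y.functionField X.functionField :=
    (CohIII.stalkToFunctionField f (genericPoint Y) hdom).toAlgebra
  letI : Algebra (Y.presheaf.stalk y) X.functionField :=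
    (CohIII.stalkToFunctionField f y h).toAlgebra
  haveI : IsScalarTower (Y.presheaf.stalk y) Y.functionField X.functionField :=
    IsScalarTower.of_algebraMap_eq' (by
      rw [RingHom.algebraMap_toAlgebra, RingHom.algebraMap_toAlgebra]
      exact stalkToFunctionField_eq_comp f hdom y h)
  haveI : IsLocalRing (integralClosure (Y.presheaf.stalk y) X.functionField) := by
    apply isLocalRing_integralClosure_of_isUnibranch_of_pow_mem (Y.presheaf.stalk y)
      Y.functionField X.functionField hy
    intro x hx
    have halgx : IsAlgebraic Y.functionField x := (hx.tower_top (A := Y.functionField)).isAlgebraic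
    obtain ⟨q, hq0, hq⟩ := halgx
    obtain ⟨e, k, hk⟩ := hrad x ⟨q, hq0, hq⟩
    have hpos : 0 < ringExpChar X.functionField := by
      rcases expChar_is_prime_or_one X.functionField (ringExpChar X.functionField) with h' | h'
      · exact h'.pos
      · rw [h']; exact Nat.one_pos
    exact ⟨_, pow_pos hpos e, k, hk⟩
  exact (toSubringEquiv (integralClosure (Y.presheaf.stalk y) X.functionField)).symm.isLocalRing

/-- **Scheme-level algebraically closed case (EGA III 4.3.12, ring half).** If `R(Y)` is
algebraically closed in `R(X)` and `O_{Y,y}` is integrally closed, then the integral closure of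
`O_{Y,y}` in `R(X)` is the image of `O_{Y,y}`. -/
theorem integralClosureStalk_eq_range (f : X ⟶ Y)
    (hdom : f.base (genericPoint X) ⤳ genericPoint Y)
    (halg : ∀ x : X.functionField,
      (∃ q : Polynomial Y.functionField, q ≠ 0 ∧
        Polynomial.eval₂ (CohIII.stalkToFunctionField f (genericPoint Y) hdom) x q = 0) →
      x ∈ Set.range (CohIII.stalkToFunctionField f (genericPoint Y) hdom))
    (y : Y) (hy : IsIntegrallyClosed (Y.presheaf.stalk y)) (h : f.base (genericPoint X) ⤳ y) :
    CohIII.integralClosureStalk f y h = (CohIII.stalkToFunctionField f y h).range := by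
  letI : Algebra Y.functionField X.functionField :=
    (CohIII.stalkToFunctionField f (genericPoint Y) hdom).toAlgebra
  letI : Algebra (Y.presheaf.stalk y) X.functionField :=
    (CohIII.stalkToFunctionField f y h).toAlgebra
  haveI : IsScalarTower (Y.presheaf.stalk y) Y.functionField X.functionField :=
    IsScalarTower.of_algebraMap_eq' (by
      rw [RingHom.algebraMap_toAlgebra, RingHom.algebraMap_toAlgebra]
      exact stalkToFunctionField_eq_comp f hdom y h)
  have hbot : integralClosure (Y.presheaf.stalk y) X.functionField = ⊥ :=
    integralClosure_eq_bot_of_isIntegrallyClosed (Y.presheaf.stalk y) Y.functionField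
      X.functionField fun x hx => by
        obtain ⟨q, hq0, hq⟩ := hx
        exact halg x ⟨q, hq0, hq⟩
  change (integralClosure (Y.presheaf.stalk y) X.functionField).toSubring = _
  rw [hbot]
  ext x
  rw [Subalgebra.mem_toSubring, Algebra.mem_bot]
  rfl

end Groth.Agent.H47.Unibr
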