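import Mathlib

/-!
# Maximal ideals of an integral extension surject onto those of the base
-/

set_option autoImplicit false
set_option linter.style.haveILetI false

universe u

namespace Groth.Agent.H47.Unibr

/-- contraction of maximal ideals along an integral algebra -/
noncomputable def maxSpecComap (A C : Type*) [CommRing A] [CommRing C] [Algebra A C]
    [Algebra.IsIntegral A C] (P : MaximalSpectrum C) : MaximalSpectrum A :=
  ⟨P.asIdeal.comap (algebraMap A C), by
    haveI := P.isMaximal
    exact Ideal.isMaximal_comap_of_isIntegral_of_isMaximal P.asIdeal⟩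

theorem maxSpecComap_surjective (A C : Type*) [CommRing A] [CommRing C] [Algebra A C]
    [Algebra.IsIntegral A C] (hinj : Function.Injective (algebraMap A C)) :
    Function.Surjective (maxSpecComap A C) := by
  intro m
  haveI := m.isMaximal
  have hker : RingHom.ker (algebraMap A C) ≤ m.asIdeal := by
    rw [(RingHom.injective_iff_ker_eq_bot _).1 hinj]
    exact bot_le
  obtain ⟨Q, hQ, hQm⟩ := Ideal.exists_ideal_over_maximal_of_isIntegral m.asIdeal hker
  exact ⟨⟨Q, hQ⟩, MaximalSpectrum.ext hQm⟩

/-- an injective integral extension has at least as many maximal ideals as the base -/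
theorem mk_maximalSpectrum_le_of_isIntegral (A C : Type u) [CommRing A] [CommRing C] [Algebra A C]
    [Algebra.IsIntegral A C] (hinj : Function.Injective (algebraMap A C)) :
    Cardinal.mk (MaximalSpectrum A) ≤ Cardinal.mk (MaximalSpectrum C) :=
  Cardinal.mk_le_of_surjective (maxSpecComap_surjective A C hinj)

end Groth.Agent.H47.Unibr
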