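import Mathlib
import Groth.Prelude.Def_ega3
import Groth.Agent.H47.Unibr.Scheme

/-!
# From Stein factorisation to the count of connected components of a fibre by maximal ideals

The glue for S2421: the points of the fibre of the relative normalization `Y' → Y` over `y` inject
into the maximal ideals of the integral closure of `O_{Y,y}` in the function field of `X`.
-/

set_option autoImplicit false
set_option linter.style.haveILetI false
set_option linter.unusedSectionVars false
set_option linter.unusedVariables false

universe u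

namespace Groth.Agent.H47.Unibr

open AlgebraicGeometry CategoryTheory

/-- if a map identifies exactly the points in the same connected component, there are at most as
many connected components as points of the target -/
theorem mk_connectedComponents_le_of_iff {α β : Type u} [TopologicalSpace α] (φ : α → β)
    (hiff : ∀ x x' : α, φ x = φ x' ↔ connectedComponent x = connectedComponent x') :
    Cardinal.mk (_root_.ConnectedComponents α) ≤ Cardinal.mk β := by
  let Φ : _root_.ConnectedComponents α → β :=
    Quotient.lift φ (fun x x' (h : connectedComponent x = connectedComponent x') =>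
      (hiff x x').2 h)
  refine Cardinal.mk_le_of_injective (f := Φ) ?_
  intro a b
  induction a using Quotient.inductionOn with | _ x => ?_
  induction b using Quotient.inductionOn with | _ x' => ?_
  intro h
  exact Quotient.sound ((hiff x x').1 h)

/-- a dominant morphism of irreducible schemes maps the generic point to the generic point -/
theorem map_genericPoint_of_isDominant' {X Y : Scheme.{u}} [IrreducibleSpace X] [IrreducibleSpace Y]
    (t : X ⟶ Y) [IsDominant t] : t.base (genericPoint X) = genericPoint Y := by
  have h1 := (genericPoint_spec X).image t.continuous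
  rw [Set.image_univ, t.denseRange.closure_range] at h1
  exact h1.eq (genericPoint_spec Y)

section key

variable {X Y' Y : Scheme.{u}} [IsIntegral X]

/-- sections of `Y'` over an open containing the image of the generic point of `X`, mapped to the
function field of `X` -/
noncomputable def secToFF (t : X ⟶ Y') (U' : Y'.Opens) (hξ : t.base (genericPoint X) ∈ U') :
    Γ(Y', U') →+* X.functionField :=
  (t.stalkMap (genericPoint X)).hom.comp (Y'.presheaf.germ U' _ hξ).hom

theorem stalkToFunctionField_germ (t : X ⟶ Y') (y' : Y') (h' : t.base (genericPoint X) ⤳ y')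
    (U' : Y'.Opens) (hU : y' ∈ U') (b' : Γ(Y', U')) :
    CohIII.stalkToFunctionField t y' h' (Y'.presheaf.germ U' y' hU b') =
      secToFF t U' (h'.mem_open U'.2 hU) b' := by
  have := Y'.presheaf.germ_stalkSpecializes hU h'
  have h2 := congrArg (fun k => k.hom b') this
  simp only [CommRingCat.hom_comp, RingHom.comp_apply] at h2
  simp only [CohIII.stalkToFunctionField, secToFF, RingHom.comp_apply]
  rw [h2]

theorem stalkToFunctionField_comp (t : X ⟶ Y') (g : Y' ⟶ Y) (y' : Y')
    (h : (t ≫ g).base (genericPoint X) ⤳ g.base y') (h' : t.base (genericPoint X) ⤳ y') :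
    CohIII.stalkToFunctionField (t ≫ g) (g.base y') h =
      (CohIII.stalkToFunctionField t y' h').comp (g.stalkMap y').hom := by
  unfold CohIII.stalkToFunctionField
  rw [RingHom.comp_assoc, ← CommRingCat.hom_comp, ← CommRingCat.hom_comp, ← CommRingCat.hom_comp,
    ← Scheme.Hom.stalkSpecializes_stalkMap g _ _ h', Category.assoc, ← Scheme.Hom.stalkMap_comp]
  rfl

/-- **Key lemma.** For a factorization `f = t ≫ g` and a point `y'` of `Y'` over `y` to which the
image of the generic point of `X` specializes, there is a maximal ideal of the integral closure of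
`O_{Y,y}` in `R(X)` whose trace on sections of `O_{Y'}` near `y'` is the maximal ideal of `y'`. -/
theorem exists_maximal_of_point (f : X ⟶ Y) (t : X ⟶ Y') (g : Y' ⟶ Y) (hf : t ≫ g = f)
    (y : Y) (h : f.base (genericPoint X) ⤳ y) (y' : Y') (hy' : g.base y' = y)
    (h' : t.base (genericPoint X) ⤳ y') :
    ∃ n : MaximalSpectrum (CohIII.integralClosureStalk f y h),
      ∀ (U' : Y'.Opens) (hU : y' ∈ U') (b' : Γ(Y', U'))
        (hb : secToFF t U' (h'.mem_open U'.2 hU) b' ∈ CohIII.integralClosureStalk f y h),
        ((⟨_, hb⟩ : CohIII.integralClosureStalk f y h) ∈ n.asIdeal ↔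
          Y'.presheaf.germ U' y' hU b' ∈ IsLocalRing.maximalIdeal (Y'.presheaf.stalk y')) := by
  subst hf
  subst hy'
  let α : Y.presheaf.stalk (g.base y') →+* Y'.presheaf.stalk y' := (g.stalkMap y').hom
  let ρ : Y'.presheaf.stalk y' →+* X.functionField := CohIII.stalkToFunctionField t y' h'
  let σ : Y.presheaf.stalk (g.base y') →+* X.functionField :=
    CohIII.stalkToFunctionField (t ≫ g) (g.base y') h
  have hσ : σ = ρ.comp α := stalkToFunctionField_comp t g y' h h'
  letI : Algebra (Y.presheaf.stalk (g.base y')) X.functionField := σ.toAlgebra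
  letI : Algebra (Y'.presheaf.stalk y') X.functionField := ρ.toAlgebra
  letI : Algebra (Y.presheaf.stalk (g.base y')) (Y'.presheaf.stalk y') := α.toAlgebra
  haveI : IsScalarTower (Y.presheaf.stalk (g.base y')) (Y'.presheaf.stalk y') X.functionField :=
    IsScalarTower.of_algebraMap_eq' hσ
  obtain ⟨N, hN⟩ := Ideal.exists_maximal (integralClosure (Y'.presheaf.stalk y') X.functionField)
  haveI := hN
  have hNm : N.comap (algebraMap (Y'.presheaf.stalk y')
      (integralClosure (Y'.presheaf.stalk y') X.functionField)) =
      IsLocalRing.maximalIdeal (Y'.presheaf.stalk y') := comap_eq_maximalIdeal_of_isMaximal N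
  let incl : integralClosure (Y.presheaf.stalk (g.base y')) X.functionField →+*
      integralClosure (Y'.presheaf.stalk y') X.functionField :=
    { toFun := fun x => ⟨x.1, (show IsIntegral (Y.presheaf.stalk (g.base y')) x.1 from x.2).tower_top⟩
      map_one' := rfl
      map_mul' := fun _ _ => rfl
      map_zero' := rfl
      map_add' := fun _ _ => rfl }
  let n₀ : Ideal (integralClosure (Y.presheaf.stalk (g.base y')) X.functionField) := N.comap incl
  haveI : n₀.IsPrime := Ideal.comap_isPrime incl N
  have hn₀ : n₀.comap (algebraMap (Y.presheaf.stalk (g.base y'))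
      (integralClosure (Y.presheaf.stalk (g.base y')) X.functionField)) =
      IsLocalRing.maximalIdeal (Y.presheaf.stalk (g.base y')) := by
    ext x
    have h1 : incl (algebraMap (Y.presheaf.stalk (g.base y'))
        (integralClosure (Y.presheaf.stalk (g.base y')) X.functionField) x) =
        algebraMap (Y'.presheaf.stalk y')
          (integralClosure (Y'.presheaf.stalk y') X.functionField) (α x) := by
      apply Subtype.ext
      change σ x = ρ (α x)
      rw [hσ]
      rfl
    rw [Ideal.mem_comap]
    change incl _ ∈ N ↔ _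
    rw [h1, ← Ideal.mem_comap, hNm]
    exact map_mem_nonunits_iff α x
  haveI : n₀.IsMaximal := Ideal.isMaximal_of_isIntegral_of_isMaximal_comap n₀
    (hn₀ ▸ IsLocalRing.maximalIdeal.isMaximal _)
  refine ⟨maxSpecEquiv
    (toSubringEquiv (integralClosure (Y.presheaf.stalk (g.base y')) X.functionField)).symm
    ⟨n₀, inferInstance⟩, ?_⟩
  intro U' hU b' hb
  change (⟨secToFF t U' (h'.mem_open U'.2 hU) b', _⟩ :
    integralClosure (Y'.presheaf.stalk y') X.functionField) ∈ N ↔ _
  have h2 : (⟨secToFF t U' (h'.mem_open U'.2 hU) b',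
      (show IsIntegral (Y.presheaf.stalk (g.base y')) _ from hb).tower_top⟩ :
      integralClosure (Y'.presheaf.stalk y') X.functionField) =
      algebraMap (Y'.presheaf.stalk y') (integralClosure (Y'.presheaf.stalk y') X.functionField)
        (Y'.presheaf.germ U' y' hU b') := by
    apply Subtype.ext
    exact (stalkToFunctionField_germ t y' h' U' hU b').symm
  rw [h2, ← Ideal.mem_comap, hNm]

/-- two points of an affine open with the same "prime ideal of sections vanishing at the point"
are equal -/
theorem eq_of_forall_germ_mem_iff {Z : Scheme.{u}} {U : Z.Opens} (hU : IsAffineOpen U)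
    (z₁ z₂ : Z) (h₁ : z₁ ∈ U) (h₂ : z₂ ∈ U)
    (H : ∀ b : Γ(Z, U), Z.presheaf.germ U z₁ h₁ b ∈ IsLocalRing.maximalIdeal (Z.presheaf.stalk z₁) ↔
      Z.presheaf.germ U z₂ h₂ b ∈ IsLocalRing.maximalIdeal (Z.presheaf.stalk z₂)) : z₁ = z₂ := by
  have hp : hU.primeIdealOf ⟨z₁, h₁⟩ = hU.primeIdealOf ⟨z₂, h₂⟩ := by
    rw [hU.primeIdealOf_eq_map_closedPoint, hU.primeIdealOf_eq_map_closedPoint]
    apply PrimeSpectrum.ext
    ext b
    exact H b
  have e₁ := hU.fromSpec_primeIdealOf ⟨z₁, h₁⟩
  have e₂ := hU.fromSpec_primeIdealOf ⟨z₂, h₂⟩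
  rw [hp] at e₁
  exact e₁.symm.trans e₂

/-- sections of `O_{Y'}` over the preimage of an affine open neighbourhood of `y`, for `g` integral,
land in the integral closure of `O_{Y,y}` in `R(X)` -/
theorem secToFF_mem_integralClosureStalk (f : X ⟶ Y) (t : X ⟶ Y') (g : Y' ⟶ Y) [IsIntegralHom g]
    (hf : t ≫ g = f) (y : Y) (h : f.base (genericPoint X) ⤳ y) (V : Y.Opens) (hV : IsAffineOpen V)
    (hyV : y ∈ V) (hξ : t.base (genericPoint X) ∈ g ⁻¹ᵁ V) (b' : Γ(Y', g ⁻¹ᵁ V)) :
    secToFF t (g ⁻¹ᵁ V) hξ b' ∈ CohIII.integralClosureStalk f y h := by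
  subst hf
  obtain ⟨P, hPmonic, hP⟩ := IsIntegralHom.isIntegral_app g V hV b'
  have hcompat : (CohIII.stalkToFunctionField (t ≫ g) y h).comp (Y.presheaf.germ V y hyV).hom =
      (secToFF t (g ⁻¹ᵁ V) hξ).comp (g.app V).hom := by
    unfold CohIII.stalkToFunctionField secToFF
    rw [RingHom.comp_assoc, RingHom.comp_assoc, ← CommRingCat.hom_comp, ← CommRingCat.hom_comp,
      ← CommRingCat.hom_comp, ← CommRingCat.hom_comp, Y.presheaf.germ_stalkSpecializes hyV h,
      ← Scheme.Hom.germ_stalkMap g V (t.base (genericPoint X)) hξ, Category.assoc,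
      ← Scheme.Hom.stalkMap_comp]
    rfl
  letI : Algebra (Y.presheaf.stalk y) X.functionField :=
    (CohIII.stalkToFunctionField (t ≫ g) y h).toAlgebra
  change IsIntegral (Y.presheaf.stalk y) (secToFF t (g ⁻¹ᵁ V) hξ b')
  refine ⟨P.map (Y.presheaf.germ V y hyV).hom, hPmonic.map _, ?_⟩
  rw [Polynomial.eval₂_map, RingHom.algebraMap_toAlgebra, hcompat, ← Polynomial.hom_eval₂, hP,
    map_zero]

/-- the points of `Y'` over `y` inject into the maximal ideals of the integral closure of `O_{Y,y}`
in `R(X)` -/
theorem mk_preimage_le (f : X ⟶ Y) (t : X ⟶ Y') (g : Y' ⟶ Y) [IsIntegralHom g]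
    (hf : t ≫ g = f) (hspec : ∀ y' : Y', t.base (genericPoint X) ⤳ y')
    (y : Y) (h : f.base (genericPoint X) ⤳ y) :
    Cardinal.mk (g.base ⁻¹' {y}) ≤
      Cardinal.mk (MaximalSpectrum (CohIII.integralClosureStalk f y h)) := by
  let ι : (g.base ⁻¹' {y}) → MaximalSpectrum (CohIII.integralClosureStalk f y h) := fun y' =>
    Classical.choose (exists_maximal_of_point f t g hf y h y'.1 y'.2 (hspec _))
  have hι : ∀ y' : (g.base ⁻¹' {y}), ∀ (U' : Y'.Opens) (hU : y'.1 ∈ U') (b' : Γ(Y', U'))
      (hb : secToFF t U' ((hspec y'.1).mem_open U'.2 hU) b' ∈ CohIII.integralClosureStalk f y h),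
      ((⟨_, hb⟩ : CohIII.integralClosureStalk f y h) ∈ (ι y').asIdeal ↔
        Y'.presheaf.germ U' y'.1 hU b' ∈ IsLocalRing.maximalIdeal (Y'.presheaf.stalk y'.1)) :=
    fun y' => Classical.choose_spec (exists_maximal_of_point f t g hf y h y'.1 y'.2 (hspec _))
  refine Cardinal.mk_le_of_injective (f := ι) ?_
  intro y₁ y₂ h12
  obtain ⟨V, hV, hyV, -⟩ := TopologicalSpace.Opens.isBasis_iff_nbhd.mp Y.isBasis_affineOpens
    (show y ∈ (⊤ : Y.Opens) from trivial)
  have h₁ : y₁.1 ∈ g ⁻¹ᵁ V := by
    change g.base y₁.1 ∈ V
    rw [show g.base y₁.1 = y from y₁.2]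
    exact hyV
  have h₂ : y₂.1 ∈ g ⁻¹ᵁ V := by
    change g.base y₂.1 ∈ V
    rw [show g.base y₂.1 = y from y₂.2]
    exact hyV
  apply Subtype.ext
  apply eq_of_forall_germ_mem_iff (hV.preimage g) y₁.1 y₂.1 h₁ h₂
  intro b'
  have hb := secToFF_mem_integralClosureStalk f t g hf y h V hV hyV
    ((hspec y₁.1).mem_open (g ⁻¹ᵁ V).2 h₁) b'
  rw [← hι y₁ (g ⁻¹ᵁ V) h₁ b' hb, ← hι y₂ (g ⁻¹ᵁ V) h₂ b' hb, h12]

end key

/-- **S2421 from Stein factorisation.** Given the third conclusion of the Stein factorisation theorem
(S4463) at `y`, the number of connected components of the fibre `X_y` is at most the number of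
maximal ideals of the integral closure of `O_{Y,y}` in `R(X)`. -/
theorem mk_connectedComponents_fiber_le_of_stein {X Y : Scheme.{u}} [IsIntegral X] (f : X ⟶ Y)
    [QuasiCompact f] [QuasiSeparated f] (y : Y) (h : f.base (genericPoint X) ⤳ y)
    (hstein : ∀ x x' : ↥(f.fiber y),
      (CohIII.fiberMapOver f.toNormalization f f.fromNormalization
          f.toNormalization_fromNormalization y).base x =
        (CohIII.fiberMapOver f.toNormalization f f.fromNormalization
          f.toNormalization_fromNormalization y).base x' ↔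
      connectedComponent x = connectedComponent x') :
    Cardinal.mk (_root_.ConnectedComponents (f.fiber y)) ≤
      Cardinal.mk (MaximalSpectrum (CohIII.integralClosureStalk f y h)) := by
  have hspec : ∀ y' : f.normalization, f.toNormalization.base (genericPoint X) ⤳ y' := by
    intro y'
    rw [map_genericPoint_of_isDominant' f.toNormalization]
    exact genericPoint_specializes y'
  calc Cardinal.mk (_root_.ConnectedComponents (f.fiber y))
      ≤ Cardinal.mk ↥(f.fromNormalization.fiber y) :=
        mk_connectedComponents_le_of_iff _ hstein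
    _ = Cardinal.mk (f.fromNormalization.base ⁻¹' {y}) :=
        Cardinal.mk_congr (f.fromNormalization.fiberHomeo y).toEquiv
    _ ≤ Cardinal.mk (MaximalSpectrum (CohIII.integralClosureStalk f y h)) :=
        mk_preimage_le f f.toNormalization f.fromNormalization
          f.toNormalization_fromNormalization hspec y h

end Groth.Agent.H47.Unibr
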