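import Mathlib
import Groth.Prelude.Def_ega3
import Groth.Prelude.Def_CAlg2
import Groth.Agent.H47.Unibr.SteinGlue

/-!
# Assembly of the rows S4484 and S4464 from the inequality S2421
-/

set_option autoImplicit false
set_option linter.style.haveILetI false
set_option linter.unusedSectionVars false
set_option linter.unusedVariables false

universe u

namespace Groth.Agent.H47.Unibr

open AlgebraicGeometry CategoryTheory

theorem finite_and_card_le_of_mk_le {α β : Type u} [Finite β]
    (h : Cardinal.mk α ≤ Cardinal.mk β) : Finite α ∧ Nat.card α ≤ Nat.card β := by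
  have hβ : Cardinal.mk β < Cardinal.aleph0 := Cardinal.lt_aleph0_of_finite β
  have hα : Cardinal.mk α < Cardinal.aleph0 := lt_of_le_of_lt h hβ
  haveI : Finite α := Cardinal.lt_aleph0_iff_finite.1 hα
  exact ⟨inferInstance, Cardinal.toNat_le_toNat h hβ⟩

/-- a space whose set of connected components has at most one element is preconnected -/
theorem preconnectedSpace_of_subsingleton_connectedComponents {α : Type*} [TopologicalSpace α]
    [Subsingleton (_root_.ConnectedComponents α)] : PreconnectedSpace α := by
  constructor
  by_cases hne : Nonempty α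
  · obtain ⟨x⟩ := hne
    have : (Set.univ : Set α) = connectedComponent x := by
      ext x'
      simp only [Set.mem_univ, true_iff]
      have h1 : (x' : _root_.ConnectedComponents α) = (x : _root_.ConnectedComponents α) :=
        Subsingleton.elim _ _
      rw [ConnectedComponents.coe_eq_coe] at h1
      rw [← h1]
      exact mem_connectedComponent
    rw [this]
    exact isPreconnected_connectedComponent
  · rw [not_nonempty_iff] at hne
    rw [Set.univ_eq_empty_iff.2 hne]
    exact isPreconnected_empty

section

variable {X Y : Scheme.{u}} [IsIntegral X] [IsIntegral Y]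

/-- a proper morphism of integral schemes mapping generic point to a generization of the generic point is
surjective -/
theorem surjective_of_isProper_of_specializes (f : X ⟶ Y) [IsProper f]
    (hdom : f.base (genericPoint X) ⤳ genericPoint Y) : Function.Surjective f.base := by
  intro y
  have hcl : IsClosed (Set.range f.base) := f.isClosedMap.isClosed_range
  have h1 : f.base (genericPoint X) ∈ Set.range f.base := ⟨_, rfl⟩
  have h2 : genericPoint Y ∈ Set.range f.base := hdom.mem_closed hcl h1
  exact (genericPoint_specializes y).mem_closed hcl h2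

/-- S4484 from the inequality S2421 -/
theorem row4484 (f : X ⟶ Y) [IsProper f]
    (hdom : f.base (genericPoint X) ⤳ genericPoint Y) [Algebra Y.functionField X.functionField]
    (halg : algebraMap Y.functionField X.functionField =
      CohIII.stalkToFunctionField f (genericPoint Y) hdom)
    (n : ℕ) (hn0 : 0 < n)
    (hn : Field.finSepDegree Y.functionField
      ↥(algebraicClosure Y.functionField X.functionField) = n)
    (y : Y) (hy : CAlg2.IsUnibranch (Y.presheaf.stalk y))
    (hS : ∀ h : f.base (genericPoint X) ⤳ y,
      Cardinal.mk (_root_.ConnectedComponents (f.fiber y)) ≤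
        Cardinal.mk (MaximalSpectrum (CohIII.integralClosureStalk f y h))) :
    Finite (_root_.ConnectedComponents ↥(f.fiber y)) ∧
      Nat.card (_root_.ConnectedComponents ↥(f.fiber y)) ≤ n := by
  have h : f.base (genericPoint X) ⤳ y := hdom.trans (genericPoint_specializes y)
  obtain ⟨hfin, hcard⟩ :=
    maximalSpectrum_integralClosureStalk_finite_and_card_le f hdom halg n hn0 hn y hy h
  haveI := hfin
  obtain ⟨h1, h2⟩ := finite_and_card_le_of_mk_le (hS h)
  exact ⟨h1, h2.trans hcard⟩

/-- S4464 from the inequality S2421 -/
theorem row4464 (f : X ⟶ Y) [IsProper f]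
    (hdom : f.base (genericPoint X) ⤳ genericPoint Y)
    (hrad : ∀ x : X.functionField,
      (∃ q : Polynomial Y.functionField, q ≠ 0 ∧
        Polynomial.eval₂ (CohIII.stalkToFunctionField f (genericPoint Y) hdom) x q = 0) →
      ∃ e : ℕ, x ^ (ringExpChar X.functionField ^ e) ∈
        Set.range (CohIII.stalkToFunctionField f (genericPoint Y) hdom))
    (y : Y) (hy : CAlg2.IsUnibranch (Y.presheaf.stalk y))
    (hS : ∀ h : f.base (genericPoint X) ⤳ y,
      Cardinal.mk (_root_.ConnectedComponents (f.fiber y)) ≤
        Cardinal.mk (MaximalSpectrum (CohIII.integralClosureStalk f y h))) :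
    ConnectedSpace ↥(f.fiber y) := by
  have h : f.base (genericPoint X) ⤳ y := hdom.trans (genericPoint_specializes y)
  haveI : IsLocalRing (CohIII.integralClosureStalk f y h) :=
    isLocalRing_integralClosureStalk_of_purelyInseparable f hdom hrad y hy h
  haveI : Subsingleton (MaximalSpectrum (CohIII.integralClosureStalk f y h)) :=
    ⟨fun a b => MaximalSpectrum.ext ((IsLocalRing.eq_maximalIdeal a.isMaximal).trans
      (IsLocalRing.eq_maximalIdeal b.isMaximal).symm)⟩
  have h1 : Cardinal.mk (_root_.ConnectedComponents (f.fiber y)) ≤ 1 :=
    (hS h).trans (Cardinal.le_one_iff_subsingleton.2 inferInstance)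
  haveI : Subsingleton (_root_.ConnectedComponents (f.fiber y)) :=
    Cardinal.le_one_iff_subsingleton.1 h1
  haveI : PreconnectedSpace ↥(f.fiber y) := preconnectedSpace_of_subsingleton_connectedComponents
  obtain ⟨x, hx⟩ := surjective_of_isProper_of_specializes f hdom y
  haveI : Nonempty ↥(f.fiber y) := ⟨(f.fiberHomeo y).symm ⟨x, hx⟩⟩
  exact { toNonempty := inferInstance }

end

end Groth.Agent.H47.Unibr
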